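import Groth.Agent.Sga7.H509.SepCharP
import Mathlib.RingTheory.Flat.TorsionFree
import Mathlib.RingTheory.Flat.Localization
import Mathlib.RingTheory.Polynomial.Basic
import Mathlib.Algebra.Polynomial.AlgebraMap

/-!
# Discrete valuation rings are regular over `ℤ[t]`, `F_p[t]`, or `ℤ`

* equal characteristic `p`: `k₀[t] → T`, `t ↦ π`, `k₀` perfect, is a regular homomorphism;
* residue characteristic zero: `ℤ[t] → T`, `t ↦ π`, is a regular homomorphism;
* mixed characteristic with `p` a uniformizer: `ℤ → T` is a regular homomorphism.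
-/

set_option autoImplicit false

universe u

open TensorProduct IsLocalRing Polynomial

namespace Groth.Agent.Sga7.H509.PolyBase

section charP

variable (p : ℕ) [Fact p.Prime] (k₀ : Type u) [Field k₀] [CharP k₀ p] (hperf : ∀ a : k₀, ∃ b, b ^ p = a)
  (T : Type u) [CommRing T] [IsDomain T] [IsDiscreteValuationRing T] [Algebra k₀[X] T]
  (ht : Irreducible (algebraMap k₀[X] T X))

include ht

/-- `k₀[X] → T` is injective if `X` maps to an irreducible element which is not nilpotent mod anything. -/
theorem injective_algebraMap : Function.Injective (algebraMap k₀[X] T) := by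
  rw [injective_iff_map_eq_zero]
  intro f hf
  by_contra hne
  obtain ⟨n, g, hg, hg0⟩ : ∃ (n : ℕ) (g : k₀[X]), f = X ^ n * g ∧ g.coeff 0 ≠ 0 := by
    obtain ⟨g, hg, hg0⟩ := Polynomial.exists_eq_pow_rootMultiplicity_mul_and_not_dvd f hne 0
    refine ⟨_, g, by simpa using hg, ?_⟩
    rw [Polynomial.coeff_zero_eq_eval_zero]
    intro h0
    apply hg0
    rw [Polynomial.dvd_iff_isRoot]
    exact h0
  rw [hg, map_mul, map_pow] at hf
  have h1 : algebraMap k₀[X] T g = 0 :=
    (mul_eq_zero.mp hf).resolve_left (pow_ne_zero _ ht.ne_zero)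
  have h2 : algebraMap k₀[X] T g - algebraMap k₀[X] T (C (g.coeff 0)) ∈ maximalIdeal T := by
    rw [← map_sub]
    have h3 : X ∣ g - C (g.coeff 0) := by
      rw [Polynomial.X_dvd_iff]
      simp
    obtain ⟨q, hq⟩ := h3
    rw [hq, map_mul]
    exact Ideal.mul_mem_right _ _ ((IsDiscreteValuationRing.irreducible_iff_uniformizer _).1 ht ▸
      Ideal.mem_span_singleton_self _)
  rw [h1, zero_sub, neg_mem_iff] at h2
  have h3 : IsUnit (algebraMap k₀[X] T (C (g.coeff 0))) := by
    refine IsUnit.map _ ?_
    exact (isUnit_iff_ne_zero.mpr hg0).map C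
  exact (mem_maximalIdeal _).mp h2 h3

/-- Equal characteristic `p`. -/
theorem isRegularHom_charP (hperf : ∀ a : k₀, ∃ b, b ^ p = a) : CAlg.IsRegularHom k₀[X] T := by
  have hinj := injective_algebraMap k₀ T ht
  have hfaith : FaithfulSMul k₀[X] T := (faithfulSMul_iff_algebraMap_injective _ _).mpr hinj
  have hflat : Module.Flat k₀[X] T := inferInstance
  refine RegBase.isRegularHom_of_perfect X ht fun q hq hF => ?_
  have hnt : Nontrivial (q.Fiber T) := by
    let := hF.toField
    infer_instance
  have hck : CharP q.ResidueField p := by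
    have : CharP k₀[X] p := inferInstance
    have h1 : (algebraMap k₀[X] q.ResidueField).comp (C : k₀ →+* k₀[X]) 1 = 1 := map_one _
    exact charP_of_injective_ringHom
      (f := (algebraMap k₀[X] q.ResidueField).comp (C : k₀ →+* k₀[X])) (RingHom.injective _) p
  by_cases hX : X ∈ q
  · left
    have hmax : ∀ r : k₀[X], algebraMap k₀[X] q.ResidueField r =
        algebraMap k₀[X] q.ResidueField (C (r.coeff 0)) := by
      intro r
      rw [← sub_eq_zero, ← map_sub, Ideal.algebraMap_residueField_eq_zero]
      have h3 : X ∣ r - C (r.coeff 0) := by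
        rw [Polynomial.X_dvd_iff]
        simp
      exact Ideal.mem_of_dvd _ h3 hX
    have hfrob : Function.Surjective (frobenius q.ResidueField p) := by
      intro y
      obtain ⟨r, s, hs, hrs⟩ : ∃ r s : k₀[X], algebraMap k₀[X] q.ResidueField s ≠ 0 ∧
          y = algebraMap k₀[X] q.ResidueField r / algebraMap k₀[X] q.ResidueField s := by
        obtain ⟨r, s, hs, h⟩ := IsFractionRing.div_surjective (A := k₀[X] ⧸ q) y
        obtain ⟨r, rfl⟩ := Ideal.Quotient.mk_surjective r
        obtain ⟨s, rfl⟩ := Ideal.Quotient.mk_surjective s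
        refine ⟨r, s, ?_, ?_⟩
        · rw [Ne, Ideal.algebraMap_residueField_eq_zero, ← Ideal.Quotient.eq_zero_iff_mem]
          exact nonZeroDivisors.ne_zero hs
        · rw [← h]
          rfl
      obtain ⟨a, ha⟩ := hperf (r.coeff 0)
      obtain ⟨b, hb⟩ := hperf (s.coeff 0)
      refine ⟨algebraMap k₀[X] q.ResidueField (C a) / algebraMap k₀[X] q.ResidueField (C b), ?_⟩
      rw [frobenius_def, div_pow, ← map_pow, ← map_pow, ← map_pow, ← map_pow, ha, hb, hrs, ← hmax, ← hmax]
    have : PerfectRing q.ResidueField p := PerfectRing.ofSurjective _ p hfrob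
    exact PerfectRing.toPerfectField _ p
  · right
    -- `q = ⊥` and the fibre is the fraction field of `T`
    let ι : T →+* q.Fiber T := (Algebra.TensorProduct.includeRight : T →ₐ[k₀[X]] q.ResidueField ⊗[k₀[X]] T).toRingHom
    have hι : ∀ s, ι (algebraMap k₀[X] T s) = algebraMap k₀[X] (q.Fiber T) s := RegBase.includeRight_algebraMap q
    have hunit : ∀ y : T, y ≠ 0 → IsUnit (ι y) := by
      intro y hy
      obtain ⟨n, u, hu⟩ := IsDiscreteValuationRing.eq_unit_mul_pow_irreducible hy ht
      rw [hu, map_mul, map_pow, hι]
      exact (u.isUnit.map ι).mul ((RegBase.isUnit_algebraMap_fiber q hX).pow n)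
    have hunit' : ∀ y : nonZeroDivisors T, IsUnit (ι y) := fun y => hunit y (nonZeroDivisors.ne_zero y.2)
    let K := FractionRing T
    let ψ' : K →+* q.Fiber T := IsLocalization.lift (M := nonZeroDivisors T) hunit'
    have hψ' : ∀ x, ψ' (algebraMap T K x) = ι x := fun x => IsLocalization.lift_eq _ _
    have hsurj : Function.Surjective ψ' := RegBase.surjective_of_factor q (algebraMap T K) ψ' hψ'
    let := hF.toField
    let e : K ≃+* q.Fiber T := RingEquiv.ofBijective ψ' ⟨ψ'.injective, hsurj⟩
    refine SepCharP.isGeometricallyRegular p (algebraMap k₀[X] q.ResidueField X) ?_ ?_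
    · intro β
      refine SepCharP.exists_decomp p k₀ q.ResidueField ?_ hperf β
      intro y
      obtain ⟨r, s, hs, h⟩ := IsFractionRing.div_surjective (A := k₀[X] ⧸ q) y
      obtain ⟨r, rfl⟩ := Ideal.Quotient.mk_surjective r
      obtain ⟨s, rfl⟩ := Ideal.Quotient.mk_surjective s
      have hs0 : algebraMap k₀[X] q.ResidueField s ≠ 0 := by
        rw [Ne, Ideal.algebraMap_residueField_eq_zero, ← Ideal.Quotient.eq_zero_iff_mem]
        exact nonZeroDivisors.ne_zero hs
      refine ⟨r, s, hs0, ?_⟩
      rw [← h]
      exact div_mul_cancel₀ _ hs0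
    · intro x hx j
      have h1 := SepCharP.eq_zero_of_sum_eq_zero' p K (algebraMap k₀[X] T X) ht (fun j => e.symm (x j)) (by
        apply e.injective
        rw [map_sum, map_zero, ← hx]
        refine Finset.sum_congr rfl fun j _ => ?_
        rw [map_mul, map_pow, map_pow, e.apply_symm_apply]
        congr 2
        change ψ' _ = _
        rw [hψ', hι, IsScalarTower.algebraMap_apply k₀[X] q.ResidueField (q.Fiber T)]) j
      exact (map_eq_zero_iff _ e.symm.injective).mp h1

end charP

section charZero

theorem algebraMap_int {A : Type*} [CommRing A] (e : A ≃+* ℤ) {κ : Type*} [Ring κ] (f : A →+* κ) (r : A) :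
    f r = ((e r : ℤ) : κ) := by
  have : f.comp e.symm.toRingHom = Int.castRingHom κ := RingHom.ext_int _ _
  have h := RingHom.congr_fun this (e r)
  have h2 : f (e.symm (e r)) = ((e r : ℤ) : κ) := h
  rwa [e.symm_apply_apply] at h2

variable (T : Type u) [CommRing T] [IsDomain T] [IsDiscreteValuationRing T]

theorem isUnit_intCast [CharZero (ResidueField T)] (n : ℤ) (hn : n ≠ 0) : IsUnit (n : T) := by
  by_contra h
  have h1 : residue T (n : T) = 0 := (residue_eq_zero_iff _).mpr h
  rw [map_intCast] at h1
  exact hn (by exact_mod_cast h1)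

attribute [local instance] Polynomial.algebra

/-- Residue characteristic zero. -/
theorem isRegularHom_charZero {A : Type u} [CommRing A] (eA : A ≃+* ℤ) [CharZero (ResidueField T)]
    [Algebra A[X] T] (ht : Irreducible (algebraMap A[X] T X)) :
    CAlg.IsRegularHom A[X] T := by
  have : IsDomain A := eA.toMulEquiv.isDomain ℤ
  have : IsNoetherianRing A := isNoetherianRing_of_ringEquiv ℤ eA.symm
  let S := FractionRing A
  let g : A →+* T := (algebraMap A[X] T).comp C
  have hg : ∀ y : nonZeroDivisors A, IsUnit (g y) := by
    intro y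
    rw [algebraMap_int eA g]
    refine isUnit_intCast T _ ?_
    intro h0
    apply nonZeroDivisors.ne_zero y.2
    exact (map_eq_zero_iff _ eA.injective).mp h0
  let h : S →+* T := IsLocalization.lift (M := nonZeroDivisors A) hg
  have hh : ∀ a, h (algebraMap A S a) = g a := fun a => IsLocalization.lift_eq _ _
  let F : S[X] →+* T := Polynomial.eval₂RingHom h (algebraMap A[X] T X)
  let _ : Algebra S[X] T := F.toAlgebra
  have htow : IsScalarTower A[X] S[X] T := by
    refine IsScalarTower.of_algebraMap_eq' ?_
    refine Polynomial.ringHom_ext ?_ ?_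
    · intro a
      change g a = F (Polynomial.map (algebraMap A S) (C a))
      rw [Polynomial.map_C]
      change _ = Polynomial.eval₂ h _ (C _)
      rw [Polynomial.eval₂_C, hh]
    · change _ = F (Polynomial.map (algebraMap A S) X)
      rw [Polynomial.map_X]
      change _ = Polynomial.eval₂ h _ X
      rw [Polynomial.eval₂_X]
  have htX : Irreducible (algebraMap S[X] T X) := by
    have : algebraMap S[X] T X = algebraMap A[X] T X := by
      change Polynomial.eval₂ h _ X = _
      rw [Polynomial.eval₂_X]
    rw [this]
    exact ht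
  have hinj := injective_algebraMap S T htX
  have hfaith : FaithfulSMul S[X] T := (faithfulSMul_iff_algebraMap_injective _ _).mpr hinj
  have hflat1 : Module.Flat S[X] T := inferInstance
  have hloc := Polynomial.isLocalization (nonZeroDivisors A) S
  have hflat2 : Module.Flat A[X] S[X] :=
    IsLocalization.flat S[X] (Submonoid.map (C : A →+* A[X]) (nonZeroDivisors A))
  have hflat : Module.Flat A[X] T := Module.Flat.trans A[X] S[X] T
  refine RegBase.isRegularHom_of_perfect X ht fun q hq hF => ?_
  left
  have hnt : Nontrivial (q.Fiber T) := by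
    let := hF.toField
    infer_instance
  let ι : T →+* q.Fiber T := (Algebra.TensorProduct.includeRight : T →ₐ[A[X]] q.ResidueField ⊗[A[X]] T).toRingHom
  have : CharZero q.ResidueField := by
    refine charZero_of_inj_zero fun n hn => ?_
    by_contra hn0
    have h1 : ((n : ℕ) : q.Fiber T) = 0 := by
      rw [← map_natCast (algebraMap q.ResidueField (q.Fiber T)), hn, map_zero]
    have h2 : IsUnit ((n : ℕ) : q.Fiber T) := by
      rw [← map_natCast ι]
      refine IsUnit.map _ ?_
      have := isUnit_intCast T n (by exact_mod_cast hn0)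
      exact_mod_cast this
    rw [h1] at h2
    exact not_isUnit_zero h2
  infer_instance

end charZero

section cohen

/-- `ℤ → T` is a regular homomorphism for a discrete valuation ring `T` with a prime number `p` as a
uniformizer. -/
theorem isRegularHom_cohen {A : Type u} [CommRing A] (eA : A ≃+* ℤ) (T : Type u) [CommRing T] [IsDomain T]
    [IsDiscreteValuationRing T] [Algebra A T] (p : ℕ) (hp : Irreducible (p : T)) [CharZero T] :
    CAlg.IsRegularHom A T := by
  have : IsDomain A := eA.toMulEquiv.isDomain ℤ
  have : IsPrincipalIdealRing A :=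
    IsPrincipalIdealRing.of_surjective eA.symm.toRingHom eA.symm.surjective
  have hinj : Function.Injective (algebraMap A T) := by
    rw [injective_iff_map_eq_zero]
    intro a ha
    rw [algebraMap_int eA] at ha
    have : eA a = 0 := by exact_mod_cast ha
    exact (map_eq_zero_iff _ eA.injective).mp this
  have hfaith : FaithfulSMul A T := (faithfulSMul_iff_algebraMap_injective _ _).mpr hinj
  have hflat : Module.Flat A T := inferInstance
  refine RegBase.isRegularHom_of_perfect (p : A) (by rw [map_natCast]; exact hp) fun q hq hF => ?_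
  left
  obtain ⟨ℓ, hℓ⟩ := CharP.exists q.ResidueField
  rcases CharP.char_is_prime_or_zero q.ResidueField ℓ with h | h
  · have : Fact ℓ.Prime := ⟨h⟩
    have hfrob : Function.Surjective (frobenius q.ResidueField ℓ) := by
      intro y
      refine ⟨y, ?_⟩
      obtain ⟨r, s, hs, h⟩ := IsFractionRing.div_surjective (A := A ⧸ q) y
      obtain ⟨r, rfl⟩ := Ideal.Quotient.mk_surjective r
      obtain ⟨s, rfl⟩ := Ideal.Quotient.mk_surjective s
      have h1 : y = ((eA r : ℤ) : q.ResidueField) / ((eA s : ℤ) : q.ResidueField) := by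
        rw [← h, ← algebraMap_int eA (algebraMap A q.ResidueField) r,
          ← algebraMap_int eA (algebraMap A q.ResidueField) s]
        rfl
      rw [h1, map_div₀, map_intCast, map_intCast]
    have : PerfectRing q.ResidueField ℓ := PerfectRing.ofSurjective _ ℓ hfrob
    exact PerfectRing.toPerfectField _ ℓ
  · subst h
    have : CharZero q.ResidueField := CharP.charP_to_charZero _
    infer_instance

end cohen

end Groth.Agent.Sga7.H509.PolyBase
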