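import Groth.Agent.Sga7.H509.PolyBase
import Groth.Agent.Ega4C.SmoothRegular
import Groth.Agent.S0595
import Mathlib.RingTheory.TensorProduct.Quotient
import Mathlib.RingTheory.RegularLocalRing.Polynomial
import Mathlib.RingTheory.FiniteType
import Mathlib.RingTheory.FinitePresentation

/-!
# Models of discrete valuation rings of finite type over `ℤ`

`HasModel A₀ π g`: the inclusion of the finitely generated ring `A₀` in `R` factors through a ring `B` of
finite type over `ℤ` in which `g` is a unit times a power of `π`, `π` is a nonzerodivisor and `B/π` is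
regular. It holds for `R` a discrete valuation ring with uniformizer `π` which is regular over
`ℤ`, `ℤ[t]`, or `F_p[t]`, by Popescu's theorem.
-/

set_option autoImplicit false

universe u

open TensorProduct IsLocalRing Polynomial

namespace Groth.Agent.Sga7.H509.Model

/-- Factorization of `A₀ ⊆ R` through a ring `B` of finite type over `ℤ` with `B/π` regular, and `g` a
unit times a power of `π` in `B`. -/
def HasModel {R : Type u} [CommRing R] (A₀ : Subalgebra ℤ R) (π g : A₀) : Prop :=
  ∃ (B : Type u) (_ : CommRing B) (a : A₀ →+* B) (b : B →+* R),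
    Algebra.FiniteType ℤ B ∧ (∀ x : A₀, b (a x) = x) ∧ (∃ (m : ℕ) (v : Bˣ), a g = v * a π ^ m) ∧
    a π ∈ nonZeroDivisors B ∧ IsRegularRing (B ⧸ Ideal.span {a π})

/-- If `B` is smooth over `P` and `P/t` is regular, then `B/t` is regular. -/
theorem isRegularRing_quotient {P B : Type u} [CommRing P] [CommRing B] [Algebra P B] [Algebra.Smooth P B]
    (t : P) (hreg : IsRegularRing (P ⧸ Ideal.span {t})) :
    IsRegularRing (B ⧸ Ideal.span {algebraMap P B t}) := by
  have h1 : IsRegularRing ((P ⧸ Ideal.span {t}) ⊗[P] B) :=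
    Groth.Agent.Ega4C.SmoothRegular.isRegularRing_of_smooth (P ⧸ Ideal.span {t}) _
  have e := Algebra.TensorProduct.quotIdealMapEquivQuotTensor B (Ideal.span {t})
  have h2 : IsRegularRing (B ⧸ (Ideal.span {t}).map (algebraMap P B)) :=
    IsRegularRing.of_ringEquiv e.symm.toRingEquiv
  rwa [Ideal.map_span, Set.image_singleton] at h2

/-- The smooth case: `R` is regular over a ring `P` of finite type over `ℤ`. -/
theorem of_isRegularHom {P R : Type u} [CommRing P] [IsNoetherianRing P] [CommRing R] [IsDomain R]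
    [IsDiscreteValuationRing R] [Algebra P R] (h : CAlg.IsRegularHom P R) (hft : Algebra.FiniteType ℤ P)
    (t : P) (ht : t ∈ nonZeroDivisors P) (hreg : IsRegularRing (P ⧸ Ideal.span {t}))
    (hπ : Irreducible (algebraMap P R t)) (A₀ : Subalgebra ℤ R) (hA : A₀.FG)
    (hπA : algebraMap P R t ∈ A₀) (g : A₀) (hg : g ≠ 0) :
    HasModel A₀ ⟨_, hπA⟩ g := by
  obtain ⟨S, hS⟩ := hA
  have hg' : (g : R) ≠ 0 := fun h0 => hg (Subtype.ext h0)
  obtain ⟨m, v, hv⟩ := IsDiscreteValuationRing.eq_unit_mul_pow_irreducible hg' hπ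
  classical
  let S₁ : Finset R := S ∪ {(v : R), ((v⁻¹ : Rˣ) : R)}
  let A₁ : Subalgebra P R := Algebra.adjoin P (S₁ : Set R)
  have hA₁ : A₁.FG := ⟨S₁, rfl⟩
  have hft₁ : Algebra.FiniteType P A₁ := A₁.fg_iff_finiteType.mp hA₁
  have hfp₁ : Algebra.FinitePresentation P A₁ := Algebra.FinitePresentation.of_finiteType.mp hft₁
  have hle : A₀ ≤ A₁.restrictScalars ℤ := by
    rw [← hS]
    refine Algebra.adjoin_le fun x hx => ?_
    exact Algebra.subset_adjoin (by simp [S₁]; exact Or.inr (Or.inr hx))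
  have hvA : (v : R) ∈ A₁ := Algebra.subset_adjoin (by simp [S₁])
  have hwA : ((v⁻¹ : Rˣ) : R) ∈ A₁ := Algebra.subset_adjoin (by simp [S₁])
  obtain ⟨B, _, _, hB, g', b, hgb⟩ := Groth.Agent.S0595.result P R h A₁ A₁.val
  let ι : A₀ →+* A₁ := (Subalgebra.inclusion hle).toRingHom
  have hι : ∀ x : A₀, ((ι x : A₁) : R) = x := fun _ => rfl
  let a : A₀ →+* B := g'.toRingHom.comp ι
  have hbg : ∀ y : A₁, b (g' y) = y := fun y => AlgHom.congr_fun hgb y
  have haπ : a ⟨_, hπA⟩ = algebraMap P B t := by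
    have h1 : ι ⟨_, hπA⟩ = algebraMap P A₁ t := Subtype.ext rfl
    change g' (ι ⟨_, hπA⟩) = _
    rw [h1, AlgHom.commutes]
  let vu : A₁ˣ := ⟨⟨v, hvA⟩, ⟨_, hwA⟩, Subtype.ext (by simp), Subtype.ext (by simp)⟩
  refine ⟨B, inferInstance, a, b.toRingHom, ?_, fun x => hbg _, ⟨m, Units.map (g' : A₁ →* B) vu, ?_⟩, ?_, ?_⟩
  · have : Algebra.FiniteType P B := inferInstance
    exact Algebra.FiniteType.trans hft this
  · rw [haπ, ← AlgHom.commutes g']
    have h1 : ι g = vu * algebraMap P A₁ t ^ m := by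
      apply Subtype.ext
      rw [hι, hv]
      rfl
    change g' (ι g) = _
    rw [h1, map_mul, map_pow]
    rfl
  · rw [haπ]
    have : Module.Flat P B := inferInstance
    have h1 : IsSMulRegular B t := Module.Flat.isSMulRegular_of_nonZeroDivisors ht
    rw [mem_nonZeroDivisors_iff_right]
    intro x hx
    apply h1
    change t • x = t • 0
    rw [smul_zero, Algebra.smul_def, mul_comm]
    exact hx
  · rw [haπ]
    exact isRegularRing_quotient t hreg

/-- `P[X]/(X)` is regular if `P` is. -/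
theorem isRegularRing_quotient_X (P : Type u) [CommRing P] [IsRegularRing P] :
    IsRegularRing (P[X] ⧸ Ideal.span {(X : P[X])}) := by
  have e := (Polynomial.quotientSpanXSubCAlgEquiv (0 : P)).symm.toRingEquiv
  rw [C_0, sub_zero] at e
  exact IsRegularRing.of_ringEquiv e

/-- A version of `of_isRegularHom`. -/
theorem of_isRegularHom' {P R : Type u} [CommRing P] [IsNoetherianRing P] [CommRing R] [IsDomain R]
    [IsDiscreteValuationRing R] [Algebra P R] (h : CAlg.IsRegularHom P R) (hft : Algebra.FiniteType ℤ P)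
    (t : P) (ht : t ∈ nonZeroDivisors P) (hreg : IsRegularRing (P ⧸ Ideal.span {t}))
    (π : R) (htπ : algebraMap P R t = π) (hπ : Irreducible π) (A₀ : Subalgebra ℤ R) (hA : A₀.FG)
    (hπA : π ∈ A₀) (g : A₀) (hg : g ≠ 0) :
    HasModel A₀ ⟨π, hπA⟩ g := by
  subst htπ
  exact of_isRegularHom h hft t ht hreg hπ A₀ hA hπA g hg

/-- The equal characteristic case. -/
theorem of_charP (p : ℕ) [Fact p.Prime] {R : Type u} [CommRing R] [IsDomain R] [IsDiscreteValuationRing R]
    [CharP R p] (π : R) (hπ : Irreducible π) (A₀ : Subalgebra ℤ R) (hA : A₀.FG)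
    (hπA : π ∈ A₀) (g : A₀) (hg : g ≠ 0) : HasModel A₀ ⟨π, hπA⟩ g := by
  let k₀ := ULift.{u} (ZMod p)
  let e : k₀ ≃+* ZMod p := ULift.ringEquiv
  have hk : IsField k₀ := e.toMulEquiv.isField (Field.toIsField (ZMod p))
  let _ : Field k₀ := hk.toField
  have hcast : ∀ n : ℕ, e ((n : ℕ) : k₀) = ((n : ℕ) : ZMod p) := fun n => map_natCast e n
  have : CharP k₀ p := ⟨fun n => by
    rw [← CharP.cast_eq_zero_iff (ZMod p) p n, ← hcast n]
    exact ⟨fun h => by rw [h, map_zero], fun h => e.injective (by rw [h, map_zero])⟩⟩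
  let i : k₀ →+* R := (ZMod.castHom dvd_rfl R).comp e.toRingHom
  let F : k₀[X] →+* R := Polynomial.eval₂RingHom i π
  let _ : Algebra k₀[X] R := F.toAlgebra
  have hX : algebraMap k₀[X] R X = π := Polynomial.eval₂_X _ _
  have h := PolyBase.isRegularHom_charP p k₀ R (by rw [hX]; exact hπ) (fun a => ⟨a, by
    apply e.injective
    rw [map_pow, ZMod.pow_card]⟩)
  refine of_isRegularHom' h ?_ X X_mem_nonzeroDivisors (isRegularRing_quotient_X k₀) π hX hπ A₀ hA hπA g hg
  have h1 : Algebra.FiniteType ℤ k₀ := by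
    have h2 : Function.Surjective (Int.castRingHom k₀) := by
      intro x
      obtain ⟨n, hn⟩ := ZMod.intCast_surjective (e x)
      refine ⟨n, e.injective ?_⟩
      rw [← hn, eq_intCast, map_intCast]
    exact (Algebra.FiniteType.of_surjective (Algebra.ofId ℤ k₀) h2)
  exact Algebra.FiniteType.trans h1 inferInstance

/-- Residue characteristic zero. -/
theorem of_charZero {R : Type u} [CommRing R] [IsDomain R] [IsDiscreteValuationRing R]
    [CharZero (ResidueField R)] (π : R) (hπ : Irreducible π) (A₀ : Subalgebra ℤ R) (hA : A₀.FG)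
    (hπA : π ∈ A₀) (g : A₀) (hg : g ≠ 0) : HasModel A₀ ⟨π, hπA⟩ g := by
  obtain ⟨A, _, eA⟩ : ∃ (A : Type u) (_ : CommRing A), Nonempty (A ≃+* ℤ) :=
    ⟨ULift.{u} ℤ, inferInstance, ⟨ULift.ringEquiv⟩⟩
  obtain ⟨eA⟩ := eA
  have : IsNoetherianRing A := isNoetherianRing_of_ringEquiv ℤ eA.symm
  have : IsRegularRing A := IsRegularRing.of_ringEquiv eA.symm
  let i : A →+* R := (Int.castRingHom R).comp eA.toRingHom
  let F : A[X] →+* R := Polynomial.eval₂RingHom i π
  let _ : Algebra A[X] R := F.toAlgebra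
  have hX : algebraMap A[X] R X = π := Polynomial.eval₂_X _ _
  have h := PolyBase.isRegularHom_charZero R eA (by rw [hX]; exact hπ)
  refine of_isRegularHom' h ?_ X X_mem_nonzeroDivisors (isRegularRing_quotient_X A) π hX hπ A₀ hA hπA g hg
  have h1 : Algebra.FiniteType ℤ A := by
    have h2 : Function.Surjective (Int.castRingHom A) := by
      intro x
      refine ⟨eA x, eA.injective ?_⟩
      rw [eq_intCast, map_intCast, Int.cast_id]
    exact (Algebra.FiniteType.of_surjective (Algebra.ofId ℤ A) h2)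
  exact Algebra.FiniteType.trans h1 inferInstance

end Groth.Agent.Sga7.H509.Model
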