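import Groth.Prelude.Def_Found
import Mathlib.RingTheory.Unramified.Field
import Mathlib.RingTheory.LocalProperties.Reduced
import Mathlib.RingTheory.LocalRing.ResidueField.Fiber
import Mathlib.RingTheory.DedekindDomain.Dvr
import Mathlib.RingTheory.DiscreteValuationRing.Basic
import Mathlib.FieldTheory.Perfect
import Mathlib.RingTheory.Artinian.Module

/-!
# Regular homomorphisms to discrete valuation rings

Fibres of a ring map `P → T`, `T` a discrete valuation ring whose uniformizer comes from `P`, are fields or
zero; with perfect residue fields the map is regular as soon as it is flat.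
-/

set_option autoImplicit false

universe u

open TensorProduct IsLocalRing

namespace Groth.Agent.Sga7.H509.RegBase

/-- a field is a regular ring -/
theorem isRegularRing_of_isField (F : Type u) [CommRing F] (h : IsField F) : IsRegularRing F := by
  let := h.toField
  infer_instance

/-- the zero ring is a regular ring -/
theorem isRegularRing_of_subsingleton (F : Type u) [CommRing F] [Subsingleton F] : IsRegularRing F := by
  have : IsNoetherianRing F := inferInstance
  rw [isRegularRing_iff]
  intro p hp
  exact absurd (Subsingleton.elim (1 : F) 0 ▸ p.zero_mem) ((Ideal.ne_top_iff_one p).mp hp.ne_top)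

/-- A reduced Artinian ring is regular. -/
theorem isRegularRing_of_isArtinianRing (R : Type u) [CommRing R] [IsArtinianRing R] [IsReduced R] :
    IsRegularRing R := by
  rw [isRegularRing_iff]
  intro p hp
  have hf : IsField (Localization.AtPrime p) := by
    have : IsArtinianRing (Localization.AtPrime p) := inferInstance
    exact IsArtinianRing.isField_of_isReduced_of_isLocalRing _
  let := hf.toField
  infer_instance

theorem isGeometricallyRegular_of_subsingleton (k F : Type u) [Field k] [CommRing F] [Algebra k F]
    [Subsingleton F] : CAlg.IsGeometricallyRegular k F := by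
  intro k' _ _ _
  have : Subsingleton (k' ⊗[k] F) := inferInstance
  exact isRegularRing_of_subsingleton _

/-- A field extension of a perfect field is geometrically regular. -/
theorem isGeometricallyRegular_of_perfectField (k F : Type u) [Field k] [PerfectField k] [CommRing F] [Algebra k F]
    (hF : IsField F) : CAlg.IsGeometricallyRegular k F := by
  let := hF.toField
  intro k' _ _ _
  have : Algebra.IsSeparable k k' := Algebra.IsAlgebraic.isSeparable_of_perfectField
  have : Algebra.FormallyUnramified k k' := Algebra.FormallyUnramified.of_isSeparable k k'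
  have : Algebra.FormallyUnramified F (F ⊗[k] k') := inferInstance
  have : Module.Finite F (F ⊗[k] k') := inferInstance
  have : IsReduced (F ⊗[k] k') := Algebra.FormallyUnramified.isReduced_of_field F (F ⊗[k] k')
  have : IsArtinianRing (F ⊗[k] k') := IsArtinianRing.of_finite F _
  have := isRegularRing_of_isArtinianRing (F ⊗[k] k')
  exact IsRegularRing.of_ringEquiv (Algebra.TensorProduct.comm k F k').toRingEquiv

section Fib

variable {P T : Type u} [CommRing P] [CommRing T] [Algebra P T] (p : Ideal P) [p.IsPrime]

/-- elements outside of `p` are units in the fibre -/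
theorem isUnit_algebraMap_fiber {s : P} (hs : s ∉ p) : IsUnit (algebraMap P (p.Fiber T) s) := by
  rw [IsScalarTower.algebraMap_apply P p.ResidueField]
  refine IsUnit.map _ (isUnit_iff_ne_zero.2 ?_)
  rwa [Ne, Ideal.algebraMap_residueField_eq_zero]

theorem algebraMap_fiber_eq_zero {s : P} (hs : s ∈ p) : algebraMap P (p.Fiber T) s = 0 := by
  rw [IsScalarTower.algebraMap_apply P p.ResidueField, Ideal.algebraMap_residueField_eq_zero.2 hs, map_zero]

theorem includeRight_algebraMap (s : P) :
    (Algebra.TensorProduct.includeRight : T →ₐ[P] p.ResidueField ⊗[P] T) (algebraMap P T s) =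
      algebraMap P (p.Fiber T) s := AlgHom.commutes _ _

/-- If `T → κ(p) ⊗ T` factors through a field `F` under `T`, then `F → κ(p) ⊗ T` is surjective. -/
theorem surjective_of_factor {F : Type u} [Field F] (ψ : T →+* F) (ψ' : F →+* p.Fiber T)
    (h : ∀ x, ψ' (ψ x) = (Algebra.TensorProduct.includeRight : T →ₐ[P] p.ResidueField ⊗[P] T) x) :
    Function.Surjective ψ' := by
  intro y
  by_cases hsub : Subsingleton (p.Fiber T)
  · exact ⟨0, Subsingleton.elim _ _⟩
  rw [not_subsingleton_iff_nontrivial] at hsub
  obtain ⟨r, hr, s, hs'⟩ := Ideal.Fiber.exists_smul_eq_one_tmul _ y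
  have hs : algebraMap P (p.Fiber T) r * y = (Algebra.TensorProduct.includeRight : T →ₐ[P] p.ResidueField ⊗[P] T) s := by
    rw [← Algebra.smul_def]
    exact hs'
  have hr1 : IsUnit (algebraMap P (p.Fiber T) r) := isUnit_algebraMap_fiber p hr
  have hr2 : ψ' (ψ (algebraMap P T r)) = algebraMap P (p.Fiber T) r := by
    rw [h, includeRight_algebraMap]
  have hr0 : ψ (algebraMap P T r) ≠ 0 := by
    intro h0
    rw [h0, map_zero] at hr2
    rw [← hr2] at hr1
    exact not_isUnit_zero hr1
  refine ⟨ψ s / ψ (algebraMap P T r), ?_⟩
  apply hr1.mul_left_cancel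
  rw [← hr2, ← map_mul, mul_div_cancel₀ _ hr0, h, ← hs, hr2]

theorem isField_of_factor {F : Type u} [Field F] (ψ : T →+* F) (ψ' : F →+* p.Fiber T)
    (h : ∀ x, ψ' (ψ x) = (Algebra.TensorProduct.includeRight : T →ₐ[P] p.ResidueField ⊗[P] T) x)
    [Nontrivial (p.Fiber T)] : IsField (p.Fiber T) :=
  (RingEquiv.ofBijective ψ' ⟨ψ'.injective, surjective_of_factor p ψ ψ' h⟩).symm.toMulEquiv.isField
    (Field.toIsField F)

/-- The fibres of `P → T`, `T` a discrete valuation ring with uniformizer coming from `P`, are fields. -/
theorem isField_fiber [IsDomain T] [IsDiscreteValuationRing T] (t : P) (ht : Irreducible (algebraMap P T t))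
    [Nontrivial (p.Fiber T)] : IsField (p.Fiber T) := by
  let ι : T →+* p.Fiber T := (Algebra.TensorProduct.includeRight : T →ₐ[P] p.ResidueField ⊗[P] T).toRingHom
  have hι : ∀ s, ι (algebraMap P T s) = algebraMap P (p.Fiber T) s := includeRight_algebraMap p
  by_cases htp : t ∈ p
  · -- factor through the residue field
    have hker : maximalIdeal T ≤ RingHom.ker ι := by
      rw [(IsDiscreteValuationRing.irreducible_iff_uniformizer _).1 ht, Ideal.span_singleton_le_iff_mem,
        RingHom.mem_ker, hι, algebraMap_fiber_eq_zero p htp]
    refine isField_of_factor p (residue T) (Ideal.Quotient.lift (maximalIdeal T) ι (fun a ha => hker ha)) ?_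
    intro x
    exact Ideal.Quotient.lift_mk _ _ _
  · have hunit : ∀ y : nonZeroDivisors T, IsUnit (ι y) := by
      rintro ⟨y, hy⟩
      obtain ⟨n, u, hu⟩ := IsDiscreteValuationRing.eq_unit_mul_pow_irreducible (nonZeroDivisors.ne_zero hy) ht
      change IsUnit (ι y)
      rw [hu, map_mul, map_pow, hι]
      exact (u.isUnit.map ι).mul ((isUnit_algebraMap_fiber p htp).pow n)
    refine isField_of_factor p (algebraMap T (FractionRing T))
      (IsLocalization.lift (M := nonZeroDivisors T) hunit) ?_
    intro x
    exact IsLocalization.lift_eq _ _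

end Fib

/-- Criterion for a ring map to a discrete valuation ring to be regular. -/
theorem isRegularHom_of_perfect {P T : Type u} [CommRing P] [CommRing T] [Algebra P T] [IsDomain T]
    [IsDiscreteValuationRing T] (t : P) (ht : Irreducible (algebraMap P T t)) [Module.Flat P T]
    (h : ∀ (p : Ideal P) [p.IsPrime], IsField (p.Fiber T) → PerfectField p.ResidueField ∨
      CAlg.IsGeometricallyRegular p.ResidueField (p.Fiber T)) :
    CAlg.IsRegularHom P T := by
  refine ⟨inferInstance, fun p hp => ?_⟩
  by_cases hsub : Subsingleton (p.Fiber T)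
  · exact ⟨inferInstance, isGeometricallyRegular_of_subsingleton _ _⟩
  rw [not_subsingleton_iff_nontrivial] at hsub
  have hF := isField_fiber p t ht
  refine ⟨?_, ?_⟩
  · let := hF.toField
    infer_instance
  · rcases h p hF with h1 | h1
    · exact isGeometricallyRegular_of_perfectField _ _ hF
    · exact h1

end Groth.Agent.Sga7.H509.RegBase
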