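import Groth.Agent.Sga7.H509.RegBase
import Groth.Agent.S2037
import Mathlib.LinearAlgebra.Basis.VectorSpace
import Mathlib.LinearAlgebra.TensorProduct.Basis
import Mathlib.RingTheory.Polynomial.Basic

/-!
# Separability of the fraction field of a discrete valuation ring over `k₀(t)` in characteristic `p`
-/

set_option autoImplicit false

universe u

open TensorProduct IsLocalRing

namespace Groth.Agent.Sga7.H509.SepCharP

/-- In a discrete valuation ring of characteristic `p`, `∑ x_j ^ p π ^ j = 0` (`j < p`) implies that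
all `x_j` are divisible by `π`. -/
theorem dvd_of_sum_eq_zero {T : Type u} [CommRing T] (p : ℕ) [Fact p.Prime]
    (π : T) (hπ : Prime π) (x : Fin p → T) (h : ∑ j : Fin p, x j ^ p * π ^ (j : ℕ) = 0)
    (hreg : IsLeftRegular π) (j : Fin p) : π ∣ x j := by
  induction j using WellFoundedLT.induction with
  | ind j ih =>
    have hp := (Fact.out : p.Prime)
    have h1 : π ^ ((j : ℕ) + 1) ∣ x j ^ p * π ^ (j : ℕ) := by
      have h2 : x j ^ p * π ^ (j : ℕ) = - ∑ i ∈ Finset.univ.erase j, x i ^ p * π ^ (i : ℕ) := by
        rw [eq_neg_iff_add_eq_zero, ← h]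
        exact Finset.add_sum_erase Finset.univ (fun i : Fin p => x i ^ p * π ^ (i : ℕ)) (Finset.mem_univ j)
      rw [h2, dvd_neg]
      refine Finset.dvd_sum fun i hi => ?_
      rw [Finset.mem_erase] at hi
      rcases lt_or_gt_of_ne hi.1 with hlt | hgt
      · obtain ⟨y, hy⟩ := ih i hlt
        rw [hy, mul_pow]
        have : (j : ℕ) + 1 ≤ p := j.2
        exact Dvd.dvd.mul_right (Dvd.dvd.mul_right (pow_dvd_pow _ this) _) _
      · exact Dvd.dvd.mul_left (pow_dvd_pow _ hgt) _
    rw [pow_succ, mul_comm (x j ^ p)] at h1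
    obtain ⟨c, hc⟩ := h1
    have h3 : π ∣ x j ^ p := by
      refine ⟨c, ?_⟩
      have hreg' : IsLeftRegular (π ^ (j : ℕ)) := hreg.pow _
      apply hreg'
      simpa [mul_assoc] using hc
    exact hπ.dvd_of_dvd_pow h3

theorem eq_zero_of_sum_eq_zero {T : Type u} [CommRing T] [IsDomain T] [IsDiscreteValuationRing T] (p : ℕ) [Fact p.Prime]
    (π : T) (hπ : Irreducible π) (x : Fin p → T) (h : ∑ j : Fin p, x j ^ p * π ^ (j : ℕ) = 0)
    (j : Fin p) : x j = 0 := by
  have hreg : IsLeftRegular π := (IsRegular.of_ne_zero hπ.ne_zero).left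
  have key : ∀ (n : ℕ) (x : Fin p → T), ∑ j : Fin p, x j ^ p * π ^ (j : ℕ) = 0 → ∀ j, π ^ n ∣ x j := by
    intro n
    induction n with
    | zero => intro x _ j; simp
    | succ n ih =>
      intro x hx j
      choose y hy using dvd_of_sum_eq_zero p π hπ.prime x hx hreg
      have h2 : ∑ j : Fin p, y j ^ p * π ^ (j : ℕ) = 0 := by
        have h3 : π ^ p * ∑ j : Fin p, y j ^ p * π ^ (j : ℕ) = 0 := by
          rw [← hx, Finset.mul_sum]
          refine Finset.sum_congr rfl fun i _ => ?_
          rw [hy i, mul_pow]
          ring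
        exact (mul_eq_zero.mp h3).resolve_left (pow_ne_zero _ hπ.ne_zero)
      rw [hy j, pow_succ, mul_comm]
      exact mul_dvd_mul_left _ (ih y h2 j)
  by_contra hne
  obtain ⟨n, u, hu⟩ := IsDiscreteValuationRing.eq_unit_mul_pow_irreducible hne hπ
  have h1 := key (n + 1) x h j
  rw [hu, pow_succ, mul_comm (u : T)] at h1
  have h2 : π ∣ (u : T) := by
    obtain ⟨c, hc⟩ := h1
    refine ⟨c, ?_⟩
    have hreg' : IsLeftRegular (π ^ n) := hreg.pow _
    apply hreg'
    simpa [mul_assoc] using hc
  exact hπ.not_isUnit (isUnit_of_dvd_unit h2 u.isUnit)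

/-- The same over a fraction field. -/
theorem eq_zero_of_sum_eq_zero' {T : Type u} [CommRing T] [IsDomain T] [IsDiscreteValuationRing T] (p : ℕ) [Fact p.Prime]
    (K : Type u) [Field K] [Algebra T K] [IsFractionRing T K]
    (π : T) (hπ : Irreducible π) (x : Fin p → K)
    (h : ∑ j : Fin p, x j ^ p * algebraMap T K π ^ (j : ℕ) = 0)
    (j : Fin p) : x j = 0 := by
  obtain ⟨b, hb⟩ := IsLocalization.exist_integer_multiples_of_finite (nonZeroDivisors T) x
  choose c hc using hb
  have hb0 : algebraMap T K (b : T) ≠ 0 := by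
    intro h0
    exact nonZeroDivisors.ne_zero b.2 ((FaithfulSMul.algebraMap_eq_zero_iff T K).mp h0)
  have h1 : ∑ j : Fin p, c j ^ p * π ^ (j : ℕ) = 0 := by
    apply IsFractionRing.injective T K
    rw [map_sum, map_zero]
    have : ∀ j : Fin p, algebraMap T K (c j ^ p * π ^ (j : ℕ)) =
        algebraMap T K b ^ p * (x j ^ p * algebraMap T K π ^ (j : ℕ)) := by
      intro j
      rw [map_mul, map_pow, map_pow, hc j, Algebra.smul_def, mul_pow]
      ring
    rw [Finset.sum_congr rfl fun j _ => this j, ← Finset.mul_sum, h, mul_zero]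
  have h2 := eq_zero_of_sum_eq_zero p π hπ c h1 j
  have h3 := hc j
  rw [h2, map_zero, Algebra.smul_def] at h3
  exact (mul_eq_zero.mp h3.symm).resolve_left hb0

section decomp

variable (p : ℕ) [Fact p.Prime] (k₀ : Type u) [Field k₀] [CharP k₀ p] (hperf : ∀ a : k₀, ∃ b, b ^ p = a)
  (k : Type u) [Field k] [CharP k p] [Algebra (Polynomial k₀) k]

/-- `k = ∑_{j<p} k^p t^j` for `k = k₀(t)`, `k₀` perfect. -/
theorem exists_decomp (hfrac : ∀ β : k, ∃ r s : Polynomial k₀, algebraMap _ k s ≠ 0 ∧
      β * algebraMap _ k s = algebraMap _ k r) (hperf : ∀ a : k₀, ∃ b, b ^ p = a) (β : k) :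
    ∃ c : Fin p → k, β = ∑ j : Fin p, c j ^ p * algebraMap (Polynomial k₀) k Polynomial.X ^ (j : ℕ) := by
  have hp := (Fact.out : p.Prime)
  have hpoly : ∀ f : Polynomial k₀, ∃ c : Fin p → k, algebraMap (Polynomial k₀) k f =
      ∑ j : Fin p, c j ^ p * algebraMap (Polynomial k₀) k Polynomial.X ^ (j : ℕ) := by
    intro f
    induction f using Polynomial.induction_on' with
    | add f g hf hg =>
      obtain ⟨c, hc⟩ := hf
      obtain ⟨d, hd⟩ := hg
      refine ⟨fun j => c j + d j, ?_⟩
      rw [map_add, hc, hd, ← Finset.sum_add_distrib]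
      refine Finset.sum_congr rfl fun j _ => ?_
      rw [add_pow_char]
      ring
    | monomial n a =>
      obtain ⟨b, hb⟩ := hperf a
      refine ⟨fun j => if (j : ℕ) = n % p then algebraMap (Polynomial k₀) k (Polynomial.monomial (n / p) b) else 0, ?_⟩
      rw [Finset.sum_eq_single (⟨n % p, Nat.mod_lt _ hp.pos⟩ : Fin p)]
      · dsimp only
        rw [if_pos rfl, ← map_pow (algebraMap _ k), ← map_pow (algebraMap _ k), ← map_mul]
        congr 1
        rw [Polynomial.monomial_pow, hb, ← Polynomial.monomial_one_one_eq_X, Polynomial.monomial_pow,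
          one_pow, Polynomial.monomial_mul_monomial, mul_one, one_mul, Nat.div_add_mod' n p]
      · intro j _ hj
        dsimp only
        rw [if_neg, zero_pow hp.ne_zero, zero_mul]
        intro h
        apply hj
        exact Fin.ext h
      · intro h
        exact absurd (Finset.mem_univ _) h
  obtain ⟨r, s, hs, h⟩ := hfrac β
  obtain ⟨c, hc⟩ := hpoly (r * s ^ (p - 1))
  refine ⟨fun j => c j / algebraMap _ k s, ?_⟩
  have h1 : β * algebraMap _ k s ^ p = ∑ j : Fin p, c j ^ p * algebraMap (Polynomial k₀) k Polynomial.X ^ (j : ℕ) := by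
    rw [← hc, map_mul, map_pow, ← h, mul_assoc, ← pow_succ', Nat.sub_add_cancel hp.one_le]
  rw [← mul_left_inj' (pow_ne_zero p hs), h1, Finset.sum_mul]
  refine Finset.sum_congr rfl fun j _ => ?_
  rw [div_pow, div_mul_eq_mul_div, div_mul_cancel₀ _ (pow_ne_zero p hs)]

end decomp

section main

/-- Linear independence over `A^p` of `1, t, …, t^{p-1}` and spanning of `k` over `k^p` imply geometric
regularity. -/
theorem isGeometricallyRegular {k A : Type u} [Field k] (p : ℕ) [Fact p.Prime] [CharP k p]
    [Field A] [Algebra k A] (t : k)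
    (hdec : ∀ β : k, ∃ c : Fin p → k, β = ∑ j : Fin p, c j ^ p * t ^ (j : ℕ))
    (hind : ∀ x : Fin p → A, ∑ j : Fin p, x j ^ p * algebraMap k A t ^ (j : ℕ) = 0 → ∀ j, x j = 0) :
    CAlg.IsGeometricallyRegular k A := by
  have hp := (Fact.out : p.Prime)
  have hcA : CharP A p := charP_of_injective_algebraMap (algebraMap k A).injective p
  rw [Groth.Agent.S2037.result p]
  intro k' _ _ hfin hk'
  have hck' : CharP k' p := charP_of_injective_algebraMap (algebraMap k k').injective p
  have hcT : CharP (A ⊗[k] k') p := charP_of_injective_algebraMap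
    (R := A) (A := A ⊗[k] k') (algebraMap A (A ⊗[k] k')).injective p
  let b := Module.finBasis k k'
  choose β hβ using hk'
  choose c hc using fun i => hdec (β (b i))
  -- the matrix `c` has a left inverse
  let C : (Fin (Module.finrank k k') → k) →ₗ[k] (Fin p → k) :=
    { toFun := fun d j => ∑ i, d i * c i j
      map_add' := by
        intro d e
        funext j
        simp only [Pi.add_apply, add_mul, Finset.sum_add_distrib]
      map_smul' := by
        intro a d
        funext j
        simp only [Pi.smul_apply, smul_eq_mul, RingHom.id_apply, Finset.mul_sum, mul_assoc] }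
  have hC : Function.Injective C := by
    rw [injective_iff_map_eq_zero]
    intro d hd
    have h1 : (∑ i, d i • b i) ^ p = 0 := by
      have : (∑ i, d i • b i) ^ p = algebraMap k k' (∑ i, d i ^ p * β (b i)) := by
        rw [sum_pow_char p, map_sum]
        refine Finset.sum_congr rfl fun i _ => ?_
        rw [smul_pow, map_mul, map_pow, hβ, Algebra.smul_def, map_pow]
      rw [this]
      have h2 : ∑ i, d i ^ p * β (b i) = ∑ j : Fin p, (C d j) ^ p * t ^ (j : ℕ) := by
        have : ∀ j : Fin p, (C d j) ^ p * t ^ (j : ℕ) = ∑ i, d i ^ p * (c i j ^ p * t ^ (j : ℕ)) := by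
          intro j
          change (∑ i, d i * c i j) ^ p * t ^ (j : ℕ) = _
          rw [sum_pow_char p, Finset.sum_mul]
          refine Finset.sum_congr rfl fun i _ => ?_
          rw [mul_pow, mul_assoc]
        rw [Finset.sum_congr rfl fun j _ => this j, Finset.sum_comm]
        refine Finset.sum_congr rfl fun i _ => ?_
        rw [← Finset.mul_sum, ← hc i]
      rw [h2, hd]
      simp [hp.ne_zero]
    have h3 := pow_eq_zero_iff hp.ne_zero |>.mp h1
    funext i
    exact (Fintype.linearIndependent_iff.mp b.linearIndependent) d h3 i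
  obtain ⟨G, hG⟩ := C.exists_leftInverse_of_injective (LinearMap.ker_eq_bot.mpr hC)
  have hGm : ∀ i l, ∑ j : Fin p, c i j * G (Pi.single j 1) l = if i = l then 1 else 0 := by
    intro i l
    have h1 : G (C (Pi.single i 1)) = Pi.single i 1 := by
      have := LinearMap.congr_fun hG (Pi.single i 1)
      simpa using this
    have h2 : C (Pi.single i 1) = fun j => c i j := by
      funext j
      change ∑ i', (Pi.single i (1 : k) : _ → k) i' * c i' j = c i j
      rw [Finset.sum_eq_single i]
      · rw [Pi.single_eq_same, one_mul]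
      · intro i' _ h
        rw [Pi.single_eq_of_ne h, zero_mul]
      · intro h
        exact absurd (Finset.mem_univ _) h
    have h3 : (fun j => c i j) = ∑ j : Fin p, c i j • (Pi.single j (1 : k) : Fin p → k) := by
      funext j
      simp [Finset.sum_apply, Pi.single_apply]
    rw [h2, h3, map_sum] at h1
    have h4 := congrFun h1 l
    rw [Finset.sum_apply] at h4
    simp only [map_smul, Pi.smul_apply, smul_eq_mul] at h4
    rw [h4, Pi.single_apply]
    simp only [eq_comm]
  -- reducedness
  have hred : IsReduced (A ⊗[k] k') := by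
    have key : ∀ z : A ⊗[k] k', z ^ p = 0 → z = 0 := by
      intro z hz
      let B := Algebra.TensorProduct.basis A b
      have h1 : z = ∑ i, B.repr z i • B i := (B.sum_repr z).symm
      set a := fun i => B.repr z i with ha
      have hB : ∀ i, B i = 1 ⊗ₜ[k] b i := fun i => Algebra.TensorProduct.basis_apply b i
      have h2 : z ^ p = algebraMap A (A ⊗[k] k') (∑ i, a i ^ p * algebraMap k A (β (b i))) := by
        rw [h1, sum_pow_char p, map_sum]
        refine Finset.sum_congr rfl fun i _ => ?_
        have h9 : ((1 : A) ⊗ₜ[k] algebraMap k k' (β (b i)) : A ⊗[k] k') =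
            algebraMap k (A ⊗[k] k') (β (b i)) :=
          (Algebra.TensorProduct.includeRight : k' →ₐ[k] A ⊗[k] k').commutes _
        rw [smul_pow, hB, Algebra.TensorProduct.tmul_pow, one_pow, ← hβ, map_mul,
          Algebra.smul_def, h9, IsScalarTower.algebraMap_apply k A (A ⊗[k] k')]
      rw [hz] at h2
      have h3 : ∑ i, a i ^ p * algebraMap k A (β (b i)) = 0 :=
        (map_eq_zero_iff _ (algebraMap A (A ⊗[k] k')).injective).mp h2.symm
      have h4 : ∑ j : Fin p, (∑ i, a i * algebraMap k A (c i j)) ^ p * algebraMap k A t ^ (j : ℕ) = 0 := by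
        rw [← h3]
        have : ∀ j : Fin p, (∑ i, a i * algebraMap k A (c i j)) ^ p * algebraMap k A t ^ (j : ℕ) =
            ∑ i, a i ^ p * algebraMap k A (c i j ^ p * t ^ (j : ℕ)) := by
          intro j
          rw [sum_pow_char p, Finset.sum_mul]
          refine Finset.sum_congr rfl fun i _ => ?_
          rw [mul_pow, map_mul, map_pow, map_pow, mul_assoc]
        rw [Finset.sum_congr rfl fun j _ => this j, Finset.sum_comm]
        refine Finset.sum_congr rfl fun i _ => ?_
        rw [← Finset.mul_sum, ← map_sum, ← hc i]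
      have h5 := hind _ h4
      have h6 : ∀ l, a l = 0 := by
        intro l
        have h7 : ∑ j : Fin p, (∑ i, a i * algebraMap k A (c i j)) * algebraMap k A (G (Pi.single j 1) l) = a l := by
          have : ∀ j : Fin p, (∑ i, a i * algebraMap k A (c i j)) * algebraMap k A (G (Pi.single j 1) l) =
              ∑ i, a i * algebraMap k A (c i j * G (Pi.single j 1) l) := by
            intro j
            rw [Finset.sum_mul]
            refine Finset.sum_congr rfl fun i _ => ?_
            rw [map_mul, mul_assoc]
          rw [Finset.sum_congr rfl fun j _ => this j, Finset.sum_comm]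
          have h8 : ∀ i, ∑ j : Fin p, a i * algebraMap k A (c i j * G (Pi.single j 1) l) =
              a i * if i = l then 1 else 0 := by
            intro i
            rw [← Finset.mul_sum, ← map_sum, hGm i l]
            split_ifs <;> simp
          rw [Finset.sum_congr rfl fun i _ => h8 i]
          simp
        rw [← h7]
        refine Finset.sum_eq_zero fun j _ => ?_
        rw [h5 j, zero_mul]
      rw [h1]
      refine Finset.sum_eq_zero fun i _ => ?_
      have := h6 i
      rw [ha] at this
      dsimp only at this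
      rw [this, zero_smul]
    refine ⟨fun z ⟨n, hn⟩ => ?_⟩
    have h1 : ∀ m : ℕ, ∀ z : A ⊗[k] k', z ^ (p ^ m) = 0 → z = 0 := by
      intro m
      induction m with
      | zero => intro z hz; simpa using hz
      | succ m ih =>
        intro z hz
        rw [pow_succ, pow_mul] at hz
        exact ih z (key _ hz)
    exact h1 n z (pow_eq_zero_of_le (Nat.lt_pow_self hp.one_lt).le hn)
  have : Module.Finite A (A ⊗[k] k') := inferInstance
  have : IsArtinianRing (A ⊗[k] k') := IsArtinianRing.of_finite A _
  have := RegBase.isRegularRing_of_isArtinianRing (A ⊗[k] k')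
  exact IsRegularRing.of_ringEquiv (Algebra.TensorProduct.comm k A k').toRingEquiv

end main

end Groth.Agent.Sga7.H509.SepCharP
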